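import Groth.Agent.L23.FlatLocus
import Groth.Agent.L23.OpenSub
import Groth.Agent.L23.MorCalc
import Groth.Agent.L24.St.DiagSpace

/-!
# Open loci on the base: general form and flatness
-/

set_option autoImplicit false
set_option backward.isDefEq.respectTransparency.types false

universe u

open CategoryTheory CategoryTheory.Limits AlgebraicGeometry AlgSp Topology

namespace Groth.L09.Where

open Groth.L23

variable {S : Scheme.{u}}

/-- The open subspace away from a closed set of points. -/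
theorem exists_avoid (Z : AlgSp.Space S) (B : Set (Points Z.obj)) (hB : IsClosed B) :
    ∃ (W : AlgSp.Space S) (w : W ⟶ Z), RepWith @IsOpenImmersion w.hom ∧
      ∀ (Z' : AlgSp.Space S) (g : Z' ⟶ Z), (∃ k : Z' ⟶ W, k ≫ w = g) ↔ ∀ z', Points.map g.hom z' ∉ B := by
  let W₀ : TopologicalSpace.Opens (Points Z.obj) := ⟨Bᶜ, hB.isOpen_compl⟩
  let W : AlgSp.Space S := ⟨openSub W₀, isAlgSpace_openSub W₀ Z.property⟩
  let w : W ⟶ Z := ObjectProperty.homMk (openSubι W₀)
  refine ⟨W, w, repWith_openSubι W₀, fun Z' g => ?_⟩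
  have h : (∃ k : Z'.obj ⟶ openSub W₀, k ≫ openSubι W₀ = g.hom) ↔ ∀ z', Points.map g.hom z' ∉ B := by
    rw [exists_factor_iff (repWith_openSubι W₀), range_openSubι]
    exact Set.range_subset_iff
  rw [← h]
  exact ⟨fun ⟨k, hk⟩ => ⟨k.hom, congrArg (fun φ => φ.hom) hk⟩,
    fun ⟨k, hk⟩ => ⟨ObjectProperty.homMk k, ObjectProperty.hom_ext _ hk⟩⟩

/-- Standard base change data along a morphism to the base. -/
theorem exists_squares {X Y Z Z' : AlgSp.Space S} (f : X ⟶ Y) (q : Y ⟶ Z) (g : Z' ⟶ Z) :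
    ∃ (Y' : AlgSp.Space S) (gY : Y' ⟶ Y) (q' : Y' ⟶ Z') (X' : AlgSp.Space S) (gX : X' ⟶ X) (f' : X' ⟶ Y'),
      IsPullback gY.hom q'.hom q.hom g.hom ∧ IsPullback gX.hom f'.hom f.hom gY.hom := by
  let Y' : AlgSp.Space S := ⟨pullback q.hom g.hom, isAlgSpace_of_isPullback Z.property.diag
    Y.property Z'.property (IsPullback.of_hasPullback _ _)⟩
  let gY : Y' ⟶ Y := ObjectProperty.homMk (pullback.fst q.hom g.hom)
  let X' : AlgSp.Space S := ⟨pullback f.hom gY.hom, isAlgSpace_of_isPullback Y.property.diag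
    X.property Y'.property (IsPullback.of_hasPullback _ _)⟩
  exact ⟨Y', gY, ObjectProperty.homMk (pullback.snd q.hom g.hom), X',
    ObjectProperty.homMk (pullback.fst f.hom gY.hom), ObjectProperty.homMk (pullback.snd f.hom gY.hom),
    IsPullback.of_hasPullback _ _, IsPullback.of_hasPullback _ _⟩

variable {X Y : Sp S} {f : X ⟶ Y}

theorem locP_flat_iff (hX : IsAlgSpace X) (hY : IsAlgSpace Y) :
    LocP @Flat f ↔ ∀ x, IsFlatAtMor f x := by
  refine ⟨fun h x => ?_, fun h U V a b k ha hb w => ?_⟩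
  · obtain ⟨U, V, a, b, k, ha, has, hb, -, w⟩ := exists_chart hX hY f
    obtain ⟨u, rfl⟩ := surjective_ofPt has x
    have : Flat k.left := h a b k ha hb w
    exact (isFlatAtMor_ofPt_iff ha hb w u).2 (Flat.stalkMap k.left u)
  · exact Flat.of_stalkMap k.left fun u => (isFlatAtMor_ofPt_iff ha hb w u).1 (h _)

/-- The image of the flat locus is open. -/
theorem isOpen_image_flatLocus (hX : IsAlgSpace X) (hY : IsAlgSpace Y) {Z : Sp S} (hZ : IsAlgSpace Z)
    {q : Y ⟶ Z} (hfp : LocP @LocallyOfFinitePresentation (f ≫ q)) (hft : LocP @LocallyOfFiniteType q) :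
    IsOpen (Points.map f '' {x | IsFlatAtMor f x}) := by
  obtain ⟨W, c, hc, hcs⟩ := hZ.atlas
  obtain ⟨V, b, k, hb, w₂, hbs⟩ := exists_chart_over hY hZ q hc
  obtain ⟨U, a, h, ha, w₁, has⟩ := exists_chart_over hX hY f hb
  have : LocallyOfFinitePresentation (h.left ≫ k.left) :=
    hfp a c (h ≫ k) ha hc (by rw [reassoc_of% w₁, w₂, Functor.map_comp, Category.assoc])
  have : LocallyOfFiniteType k.left := hft b c k hb hc w₂
  have := Groth.L20.locallyOfFinitePresentation_of_comp h.left k.left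
  let O : U.left.Opens := ⟨{u | (h.left.stalkMap u).hom.Flat}, Groth.L20.isOpen_flat_stalkMap h.left⟩
  have : Flat (O.ι ≫ h.left) := Flat.of_stalkMap _ fun z => by
    rw [Scheme.Hom.stalkMap_comp]
    exact RingHom.Flat.comp z.2 (Flat.stalkMap O.ι z)
  have heq : Points.map f '' {x | IsFlatAtMor f x} = Points.ofPt b '' Set.range (O.ι ≫ h.left) := by
    ext y
    constructor
    · rintro ⟨x, hx, rfl⟩
      obtain ⟨u, rfl⟩ := surjective_ofPt (has (hbs hcs)) x
      refine ⟨h.left u, ⟨⟨u, (isFlatAtMor_ofPt_iff ha hb w₁ u).1 hx⟩, rfl⟩, ?_⟩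
      rw [Points.map_ofPt, w₁, ofPt_comp]
    · rintro ⟨_, ⟨⟨u, hu⟩, rfl⟩, rfl⟩
      refine ⟨Points.ofPt a u, (isFlatAtMor_ofPt_iff ha hb w₁ u).2 hu, ?_⟩
      rw [Points.map_ofPt, w₁, ofPt_comp]
      rfl
  rw [heq]
  exact isOpenMap_ofPt hb _ (O.ι ≫ h.left).isOpenMap.isOpen_range

variable {X' Y' : Sp S}

/-- Existence of the open locus on the base where the base change is flat. -/
theorem exists_where_flat {X Y Z : AlgSp.Space S} (f : X ⟶ Y) (p : X ⟶ Z) (q : Y ⟶ Z) (hc : f ≫ q = p)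
    (hp1 : LocP @LocallyOfFinitePresentation p.hom) (hp2 : LocP @Flat p.hom)
    (hp3 : IsClosedMor p.hom) (hq : LocP @LocallyOfFiniteType q.hom) :
    ∃ B : Set (Points Z.obj), IsClosed B ∧ (B = Points.map p.hom '' {x | IsFlatAtMor f.hom x}ᶜ) ∧
      ∀ (Z' Y' X' : AlgSp.Space S) (g : Z' ⟶ Z) (gY : Y' ⟶ Y) (q' : Y' ⟶ Z'),
        IsPullback gY.hom q'.hom q.hom g.hom → ∀ (gX : X' ⟶ X) (f' : X' ⟶ Y'),
          IsPullback gX.hom f'.hom f.hom gY.hom →
            ((∀ z', Points.map g.hom z' ∉ B) ↔ LocP @Flat f'.hom) := by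
  have e : p.hom = f.hom ≫ q.hom := (congrArg (fun φ => φ.hom) hc).symm
  refine ⟨_, hp3 _ (isOpen_flatLocus X.property Y.property Z.property (e ▸ hp1) hq).isClosed_compl, rfl,
    fun Z' Y' X' g gY q' hY gX f' hX => ?_⟩
  have key := isFlatAtMor_baseChange_iff X.property Y.property Z.property (e ▸ hp1) (e ▸ hp2) hq
    Z'.property hY hX
  rw [locP_flat_iff X'.property Y'.property]
  constructor
  · intro h x'
    by_contra hx
    rw [key] at hx
    refine h (Points.map (f'.hom ≫ q'.hom) x') ⟨_, hx, ?_⟩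
    rw [← Points.map_comp, ← Points.map_comp, e]
    exact congrArg (fun φ => Points.map φ x') (hX.paste_vert hY).w
  · rintro h z' ⟨x, hx, hxz⟩
    rw [e] at hxz
    obtain ⟨x', hx', -⟩ := exists_of_isPullback (hX.paste_vert hY) x z' hxz
    exact hx (hx' ▸ (key x').1 (h x'))

end Groth.L09.Where
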