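import Groth.Agent.L23.EtaleMono
import Groth.Agent.L23.InfCharts
import Groth.Agent.L23.LqfRep
import Groth.Agent.L23.QFPoints
import Groth.Agent.L23.Univ
import Groth.Agent.L24.St.DiagSpace
import Mathlib.AlgebraicGeometry.ZariskisMainTheorem

/-!
# Unramified monomorphisms and closed immersions of algebraic spaces
-/

set_option autoImplicit false
set_option backward.isDefEq.respectTransparency.types false

universe u

open CategoryTheory CategoryTheory.Limits AlgebraicGeometry AlgSp

namespace Groth.L09.Where

open Groth.L23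

variable {S : Scheme.{u}} {X Y : Sp S} {f : X ⟶ Y}

theorem mono_of_unramified_univInjective (hX : IsAlgSpace X) (hY : IsAlgSpace Y)
    (hf : LocP (@LocallyOfFiniteType ⊓ @FormallyUnramified) f) (hinj : IsUnivInjectiveMor f) : Mono f := by
  have := isIso_of_openImmersion_surjective (repWith_isOpenImmersion_diagonal_of_unramified hX hY hf)
    (surjective_diagonal_of_fieldInjective fun K _ str => injective_comp_of_univInjective hX hinj K str)
  exact (pullback.isIso_diagonal_iff f).1 this

theorem isUnivInjectiveMor_of_mono [Mono f] : IsUnivInjectiveMor f := fun T Q _ g fst snd sq => by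
  have : Mono snd := ⟨fun a b e => sq.hom_ext
    ((cancel_mono f).1 (by rw [Category.assoc, Category.assoc, sq.w, reassoc_of% e])) e⟩
  exact Groth.L23.QFL.map_injective_of_mono snd

theorem isSeparatedMor_of_mono [Mono f] : AlgSp.IsSeparatedMor f := by
  have : IsIso (pullback.diagonal f) := (pullback.isIso_diagonal_iff f).2 inferInstance
  exact Groth.L24.St.repWith_isClosedImmersion_of_isIso _

theorem unramified_of_lft_mono (hX : IsAlgSpace X) (hY : IsAlgSpace Y) [Mono f]
    (hf : LocP @LocallyOfFiniteType f) : LocP (@LocallyOfFiniteType ⊓ @FormallyUnramified) f := by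
  have : IsIso (pullback.diagonal f) := (pullback.isIso_diagonal_iff f).2 inferInstance
  exact unramified_of_repWith_isOpenImmersion_diagonal hX hY hf (repWith_of_isIso _)

theorem lqf_of_unramified (hf : LocP (@LocallyOfFiniteType ⊓ @FormallyUnramified) f) :
    LocP (@LocallyQuasiFinite ⊓ @LocallyOfFiniteType) f :=
  locP_mono (fun φ h => by
    have := h.1; have := h.2
    exact ⟨locallyQuasiFinite_of_unramified φ, h.1⟩) hf

theorem representable_of_lft_mono (hX : IsAlgSpace X) (hY : IsAlgSpace Y) [Mono f]
    (hf : LocP @LocallyOfFiniteType f) : Representable f :=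
  Groth.L23.Lqf.representable_of_lqf hX hY (lqf_of_unramified (unramified_of_lft_mono hX hY hf))
    isSeparatedMor_of_mono

theorem closedImmersion_of_univClosed_lft_mono (hX : IsAlgSpace X) (hY : IsAlgSpace Y) [Mono f]
    (hc : IsUnivClosedMor f) (hf : LocP @LocallyOfFiniteType f) : RepWith @IsClosedImmersion f := by
  have hr := representable_of_lft_mono hX hY hf
  refine ⟨hr, fun T W g fst snd sq => ?_⟩
  have : UniversallyClosed snd.left := ((repWith_universallyClosed_iff hr).2 hc).2 g fst snd sq
  have : LocallyOfFiniteType snd.left := (repWith_of_locP etLocal_lft hY hr hf).2 g fst snd sq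
  have : Mono snd.left := (repWith_monomorphisms_of_mono (f := f) hr).2 g fst snd sq
  have : IsProper snd.left := {}
  exact IsClosedImmersion.iff_isProper_and_mono _ |>.2 ⟨this, ‹_›⟩

theorem closedImmersion_iff (hX : IsAlgSpace X) (hY : IsAlgSpace Y) :
    RepWith @IsClosedImmersion f ↔
      IsUnivClosedMor f ∧ LocP (@LocallyOfFiniteType ⊓ @FormallyUnramified) f ∧ Mono f := by
  refine ⟨fun h => ?_, fun ⟨h1, h2, h3⟩ => by
    have := h3
    exact closedImmersion_of_univClosed_lft_mono hX hY h1 (locP_mono (fun φ hφ => hφ.1) h2)⟩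
  have : Mono f := mono_of_repWith (fun _ _ φ (h : IsClosedImmersion φ) => inferInstanceAs (Mono φ)) h
  exact ⟨(repWith_universallyClosed_iff h.1).1 (repWith_mono (Q := @UniversallyClosed) (fun φ (_ : IsClosedImmersion φ) => inferInstance) h),
    unramified_of_lft_mono hX hY
      (locP_of_repWith etLocal_lft (repWith_mono (Q := @LocallyOfFiniteType) (fun φ (_ : IsClosedImmersion φ) => inferInstance) h)), ‹_›⟩

theorem locP_inf_iff {P Q : MorphismProperty Scheme.{u}} : LocP (P ⊓ Q) f ↔ LocP P f ∧ LocP Q f :=
  ⟨fun h => ⟨locP_mono (fun φ hφ => hφ.1) h, locP_mono (fun φ hφ => hφ.2) h⟩,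
    fun h _ _ a b k ha hb w => ⟨h.1 a b k ha hb w, h.2 a b k ha hb w⟩⟩

theorem unramified_mono_iff (hX : IsAlgSpace X) (hY : IsAlgSpace Y) :
    (LocP (@LocallyOfFiniteType ⊓ @FormallyUnramified) f ∧ Mono f) ↔
      (LocP (@LocallyOfFiniteType ⊓ @FormallyUnramified) f ∧ IsUnivInjectiveMor f) :=
  ⟨fun ⟨h, hm⟩ => ⟨h, by have := hm; exact isUnivInjectiveMor_of_mono⟩,
    fun ⟨h, hi⟩ => ⟨h, mono_of_unramified_univInjective hX hY h hi⟩⟩

end Groth.L09.Where
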