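import Groth.Agent.L09.Where.Unram
import Groth.Agent.L09.Where.Flat
import Groth.Agent.L09.Where.Mono
import Groth.Agent.L23.FpqcDiag

/-!
# The locus on the base where a morphism becomes unramified and universally injective
-/

set_option autoImplicit false
set_option backward.isDefEq.respectTransparency.types false
set_option backward.isDefEq.respectTransparency false

universe u

open CategoryTheory CategoryTheory.Limits AlgebraicGeometry AlgSp Topology

namespace Groth.L09.Where

open Groth.L23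

variable {S : Scheme.{u}}

theorem repWith_pullback_map {P : MorphismProperty Scheme.{u}} [P.IsStableUnderBaseChange]
    [P.IsStableUnderComposition] {A X Y : Sp S} {a : A ⟶ X} (ha : RepWith P a) (f : X ⟶ Y) :
    RepWith P (pullback.map (a ≫ f) (a ≫ f) f f a a (𝟙 Y) (by simp) (by simp)) := by
  let a₁ : pullback (a ≫ f) (a ≫ f) ⟶ pullback f (a ≫ f) :=
    pullback.map _ _ _ _ a (𝟙 _) (𝟙 Y) (by simp) (by simp)
  let a₂ : pullback f (a ≫ f) ⟶ pullback f f :=
    pullback.map _ _ _ _ (𝟙 _) a (𝟙 Y) (by simp) (by simp)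
  have e : a₁ ≫ a₂ = pullback.map (a ≫ f) (a ≫ f) f f a a (𝟙 Y) (by simp) (by simp) := by
    apply pullback.hom_ext <;> simp [pullback.map, pullback.lift_fst, pullback.lift_snd,
      pullback.lift_fst_assoc, pullback.lift_snd_assoc, a₁, a₂]
  have s₁ : IsPullback (pullback.fst (a ≫ f) (a ≫ f)) a₁ a (pullback.fst f (a ≫ f)) := by
    refine IsPullback.of_bot ?_ (by simp [pullback.map, pullback.lift_fst, a₁]) (IsPullback.of_hasPullback f (a ≫ f))
    simpa [pullback.map, pullback.lift_fst, pullback.lift_snd, pullback.lift_fst_assoc,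
      pullback.lift_snd_assoc, a₁] using IsPullback.of_hasPullback (a ≫ f) (a ≫ f)
  have s₂ : IsPullback (pullback.snd f (a ≫ f)) a₂ a (pullback.snd f f) := by
    refine IsPullback.of_bot ?_ (by simp [pullback.map, pullback.lift_snd, a₂]) (IsPullback.of_hasPullback f f).flip
    simpa [pullback.map, pullback.lift_fst, pullback.lift_snd, pullback.lift_fst_assoc,
      pullback.lift_snd_assoc, a₂] using (IsPullback.of_hasPullback f (a ≫ f)).flip
  rw [← e]
  exact repWith_comp (repWith_of_isPullback s₁ ha) (repWith_of_isPullback s₂ ha)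

/-- The diagonal image of the unramified locus is open. -/
theorem isOpen_diag_image {X Y XX : Sp S} (hX : IsAlgSpace X) (hY : IsAlgSpace Y) {f : X ⟶ Y}
    {pr0 pr1 : XX ⟶ X} (sq : IsPullback pr0 pr1 f f) :
    IsOpen (Points.map (sq.lift (𝟙 X) (𝟙 X) rfl) ''
      {x | HasAtMor (fun _ _ h u => NearPt Unr h u) f x}) := by
  let U0 : TopologicalSpace.Opens (Points X) := ⟨_, isOpen_hasAtMor etLocal_unramified hX hY (f := f)⟩
  let j := openSubι U0
  have hj : RepWith @IsOpenImmersion j := repWith_openSubι U0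
  have hX0 : IsAlgSpace (openSub U0) := isAlgSpace_openSub U0 hX
  have hje : RepWith @Etale j := repWith_mono (Q := @Etale) (fun φ (_ : IsOpenImmersion φ) => inferInstance) hj
  have hunr : LocP Unr (j ≫ f) := fun U V a b h ha hb w => unr_iff fun u => by
    refine (hasAtMor_iff etLocal_unramified (repWith_comp ha hje) hb (by rw [Category.assoc]; exact w) u).1 ?_
    have : Points.map j (Points.ofPt a u) ∈ Set.range (Points.map j) := ⟨_, rfl⟩
    rw [range_openSubι, Points.map_ofPt] at this
    exact this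
  let m : pullback (j ≫ f) (j ≫ f) ⟶ XX :=
    pullback.map (j ≫ f) (j ≫ f) f f j j (𝟙 Y) (by simp) (by simp) ≫ sq.isoPullback.inv
  have hm : RepWith @IsOpenImmersion m :=
    repWith_comp (repWith_pullback_map hj f) (repWith_of_isIso _)
  have e : pullback.diagonal (j ≫ f) ≫ m = j ≫ sq.lift (𝟙 X) (𝟙 X) rfl := by
    apply sq.hom_ext <;>
      simp [m, pullback.map, pullback.diagonal, pullback.lift_fst, pullback.lift_snd,
        pullback.lift_fst_assoc, pullback.lift_snd_assoc] <;> exact Category.id_comp _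
  have hopen : ∀ {A B : Sp S} {φ : A ⟶ B}, RepWith @IsOpenImmersion φ → IsOpenMap (Points.map φ) := fun h =>
    isOpenMap_map_of_universallyOpen
      (repWith_mono (Q := @UniversallyOpen) (fun φ (_ : IsOpenImmersion φ) => inferInstance) h)
  have hr : IsOpen (Set.range (Points.map (pullback.diagonal (j ≫ f) ≫ m))) := by
    rw [show Points.map (pullback.diagonal (j ≫ f) ≫ m) = Points.map m ∘ Points.map (pullback.diagonal (j ≫ f))
      from funext fun z => Points.map_comp _ _ _]
    exact ((hopen hm).comp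
      (hopen (repWith_isOpenImmersion_diagonal_of_unramified hX0 hY hunr))).isOpen_range
  rw [e, show Points.map (j ≫ sq.lift (𝟙 X) (𝟙 X) rfl) = Points.map (sq.lift (𝟙 X) (𝟙 X) rfl) ∘ Points.map j
      from funext fun z => Points.map_comp _ _ _, Set.range_comp, range_openSubι] at hr
  exact hr

/-- The bad set for being unramified and universally injective. -/
theorem exists_where_inj {X Y Z : AlgSp.Space S} (f : X ⟶ Y) (p : X ⟶ Z) (q : Y ⟶ Z) (hc : f ≫ q = p)
    (XX : AlgSp.Space S) (pr0 pr1 : XX ⟶ X) (hXX : IsPullback pr0.hom pr1.hom f.hom f.hom)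
    (hp1 : LocP @LocallyOfFiniteType p.hom) (hp3 : IsClosedMor (pr1 ≫ p).hom) :
    ∃ B : Set (Points Z.obj), IsClosed B ∧
      ∀ (Z' Y' X' : AlgSp.Space S) (g : Z' ⟶ Z) (gY : Y' ⟶ Y) (q' : Y' ⟶ Z'),
        IsPullback gY.hom q'.hom q.hom g.hom → ∀ (gX : X' ⟶ X) (f' : X' ⟶ Y'),
          IsPullback gX.hom f'.hom f.hom gY.hom →
            ((∀ z', Points.map g.hom z' ∉ B) ↔
              (LocP Unr f'.hom ∧ IsUnivInjectiveMor f'.hom)) := by
  have e : p.hom = f.hom ≫ q.hom := (congrArg (fun φ => φ.hom) hc).symm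
  let Δ := hXX.lift (𝟙 X.obj) (𝟙 X.obj) rfl
  let G : Set (Points XX.obj) := Points.map Δ '' {x | HasAtMor (fun _ _ h u => NearPt Unr h u) f.hom x}
  refine ⟨Points.map (pr1.hom ≫ p.hom) '' Gᶜ,
    hp3 _ (isOpen_diag_image X.property Y.property hXX).isClosed_compl, fun Z' Y' X' g gY q' hY gX f' hX => ?_⟩
  have key := unr_baseChange_iff X.property Y.property Z.property Z'.property (e ▸ hp1) hY hX
  have sqP := IsPullback.of_hasPullback f'.hom f'.hom
  let M : pullback f'.hom f'.hom ⟶ XX.obj :=
    hXX.lift (pullback.fst f'.hom f'.hom ≫ gX.hom) (pullback.snd f'.hom f'.hom ≫ gX.hom)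
      (by rw [Category.assoc, Category.assoc, hX.w, pullback.condition_assoc])
  have hM₀ : M ≫ pr0.hom = pullback.fst f'.hom f'.hom ≫ gX.hom := hXX.lift_fst _ _ _
  have hM₁ : M ≫ pr1.hom = pullback.snd f'.hom f'.hom ≫ gX.hom := hXX.lift_snd _ _ _
  have hbot : IsPullback M (pullback.fst f'.hom f'.hom) pr0.hom gX.hom := by
    refine IsPullback.of_right ?_ hM₀ hXX.flip
    rw [hM₁, hX.w]
    exact sqP.flip.paste_horiz hX
  have hΔ₀ : Δ ≫ pr0.hom = 𝟙 _ := hXX.lift_fst _ _ _
  have hΔ₁ : Δ ≫ pr1.hom = 𝟙 _ := hXX.lift_snd _ _ _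
  have hDM : pullback.diagonal f'.hom ≫ M = gX.hom ≫ Δ := by
    apply hXX.hom_ext
    · rw [Category.assoc, hM₀, Category.assoc, hΔ₀, pullback.diagonal_fst_assoc, Category.comp_id]
    · rw [Category.assoc, hM₁, Category.assoc, hΔ₁, pullback.diagonal_snd_assoc, Category.comp_id]
  have hdiag : IsPullback gX.hom (pullback.diagonal f'.hom) Δ M :=
    IsPullback.of_bot (by
      rw [hΔ₀, pullback.diagonal_fst]
      exact IsPullback.of_vert_isIso ⟨by simp⟩) hDM.symm hbot
  constructor
  · intro h
    have hall : ∀ w, Points.map M w ∈ G := fun w => by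
      by_contra hw
      refine h (Points.map (pullback.snd f'.hom f'.hom ≫ f'.hom ≫ q'.hom) w) ⟨_, hw, ?_⟩
      rw [← Points.map_comp, ← Points.map_comp]
      refine congrArg (fun φ => Points.map φ w) ?_
      rw [reassoc_of% hM₁, e, Category.assoc, Category.assoc, (hX.paste_vert hY).w]
      simp only [Category.assoc]
    refine ⟨(locP_unr_iff X'.property Y'.property).2 fun x' => ?_, isUnivInjectiveMor_of_surjective_diagonal fun w => ?_⟩
    · rw [key]
      obtain ⟨x, hx, hxe⟩ := hall (Points.map (pullback.diagonal f'.hom) x')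
      rw [← Points.map_comp, hDM] at hxe
      have := congrArg (Points.map pr0.hom) hxe
      rw [← Points.map_comp, ← Points.map_comp, hΔ₀, Category.assoc, hΔ₀, Category.comp_id, Points.map_id] at this
      exact this ▸ hx
    · obtain ⟨x, -, hxe⟩ := hall w
      obtain ⟨x', -, hx'⟩ := exists_of_isPullback hdiag x w hxe
      exact ⟨x', hx'⟩
  · rintro ⟨hu, hi⟩ z' ⟨w, hw, hwz⟩
    have hs : IsSurjectiveMor (pullback.diagonal f'.hom) :=
      surjective_diagonal_of_fieldInjective fun K _ str => injective_comp_of_univInjective X'.property hi K str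
    have e₀ : pr0.hom ≫ p.hom = pr1.hom ≫ p.hom := by rw [e, hXX.w_assoc]
    rw [← e₀, e, Points.map_comp] at hwz
    obtain ⟨x', hx', -⟩ := exists_of_isPullback (hX.paste_vert hY) _ z' hwz
    obtain ⟨w', hw', -⟩ := exists_of_isPullback hbot w x' hx'.symm
    obtain ⟨x'', hx''⟩ := hs w'
    refine hw ⟨Points.map gX.hom x'', (key x'').1 ((locP_unr_iff X'.property Y'.property).1 hu x''), ?_⟩
    rw [← Points.map_comp, ← hDM, Points.map_comp, hx'', hw']

end Groth.L09.Where

namespace Groth.L09.Where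

open Groth.L23

variable {S : Scheme.{u}}

theorem isClosedMor_of_univClosed {X Y : Sp S} (hY : IsAlgSpace Y) {f : X ⟶ Y} (h : IsUnivClosedMor f) :
    IsClosedMor f :=
  h hY (𝟙 Y) (𝟙 X) f (IsPullback.of_horiz_isIso ⟨by simp⟩)

/-- The bad set for being a closed immersion. -/
theorem exists_where_closedImmersion {X Y Z : AlgSp.Space S} (f : X ⟶ Y) (p : X ⟶ Z) (q : Y ⟶ Z) (hc : f ≫ q = p)
    (hp1 : LocP @LocallyOfFiniteType p.hom) (hp2 : IsUnivClosedMor p.hom) (hq : AlgSp.IsSeparatedMor q.hom) :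
    ∃ B : Set (Points Z.obj), IsClosed B ∧
      ∀ (Z' Y' X' : AlgSp.Space S) (g : Z' ⟶ Z) (gY : Y' ⟶ Y) (q' : Y' ⟶ Z'),
        IsPullback gY.hom q'.hom q.hom g.hom → ∀ (gX : X' ⟶ X) (f' : X' ⟶ Y'),
          IsPullback gX.hom f'.hom f.hom gY.hom →
            ((∀ z', Points.map g.hom z' ∉ B) ↔ RepWith @IsClosedImmersion f'.hom) := by
  have e : p.hom = f.hom ≫ q.hom := (congrArg (fun φ => φ.hom) hc).symm
  have hf : IsUnivClosedMor f.hom :=
    univClosed_of_comp_separated X.property Y.property Z.property (e ▸ hp2) hq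
  let XX : AlgSp.Space S := ⟨pullback f.hom f.hom,
    isAlgSpace_of_isPullback Y.property.diag X.property X.property (IsPullback.of_hasPullback _ _)⟩
  let pr0 : XX ⟶ X := ObjectProperty.homMk (pullback.fst f.hom f.hom)
  let pr1 : XX ⟶ X := ObjectProperty.homMk (pullback.snd f.hom f.hom)
  have hpr : IsClosedMor (pr1 ≫ p).hom := by
    have h1 : IsClosedMor pr1.hom :=
      hf X.property f.hom (pullback.fst f.hom f.hom) _ (IsPullback.of_hasPullback _ _)
    exact MorphismProperty.comp_mem IsClosedMor pr1.hom p.hom h1 (isClosedMor_of_univClosed Z.property hp2)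
  obtain ⟨B, hB, key⟩ := exists_where_inj f p q hc XX pr0 pr1 (IsPullback.of_hasPullback _ _) hp1 hpr
  refine ⟨B, hB, fun Z' Y' X' g gY q' hY gX f' hX => ?_⟩
  rw [key Z' Y' X' g gY q' hY gX f' hX, closedImmersion_iff X'.property Y'.property,
    unramified_mono_iff X'.property Y'.property]
  refine ⟨fun h => ⟨?_, h⟩, fun h => h.2⟩
  refine univClosed_of_comp_separated X'.property Y'.property Z'.property ?_ (separated_of_isPullback hY hq)
  exact univSp_of_isPullback (hX.paste_vert hY) (e ▸ hp2)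

theorem isIso_of_closedImmersion_flat_surjective {X Y : Sp S} (hY : IsAlgSpace Y) {f : X ⟶ Y}
    (h : RepWith @IsClosedImmersion f) (hfl : LocP @Flat f) (hs : IsSurjectiveMor f) : IsIso f := by
  refine isIso_of_repWith_isomorphisms ⟨h.1, fun T W g fst snd sq => ?_⟩
  have : IsClosedImmersion snd.left := h.2 g fst snd sq
  have : Flat snd.left := (repWith_of_locP etLocal_flat hY h.1 hfl).2 g fst snd sq
  have : Surjective snd.left := (repWith_surjective_of_map h.1 hs).2 g fst snd sq
  exact Flat.isIso_of_surjective_of_mono snd.left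

end Groth.L09.Where
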