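import Groth.Agent.L09.Where.UnramPoint
import Groth.Agent.L09.LciMor.Near
import Groth.Prelude.Def_AlgSpDec

/-!
# The unramified locus of a morphism of algebraic spaces over a base
-/

set_option autoImplicit false
set_option backward.isDefEq.respectTransparency.types false
set_option backward.isDefEq.respectTransparency false

universe u

open CategoryTheory CategoryTheory.Limits AlgebraicGeometry AlgSp Topology

namespace Groth.L09.Where

open Groth.L23

/-- Unramified morphisms of schemes, as a morphism property. -/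
abbrev Unr : MorphismProperty Scheme.{u} := @LocallyOfFiniteType ⊓ @FormallyUnramified

/-- A property near a point of the source, in the form used for algebraic spaces. -/
abbrev NearPt (P : MorphismProperty Scheme.{u}) {X Y : Scheme.{u}} (h : X ⟶ Y) (x : X) : Prop :=
  ∃ W : X.Opens, x ∈ W ∧ P (W.ι ≫ h)

variable {P : MorphismProperty Scheme.{u}}

theorem nearPt_cancel_etale (hP : EtLocal P) {X Y Z : Scheme.{u}} (l : X ⟶ Y) (r : Y ⟶ Z) [Etale r] (x : X) :
    NearPt P (l ≫ r) x ↔ NearPt P l x := by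
  have := hP.comp
  refine exists_congr fun W => and_congr_right fun _ => ⟨fun h => ?_, fun h => ?_⟩
  · exact hP.of_comp_etale (W.ι ≫ l) r (by rw [Category.assoc]; exact h)
  · rw [← Category.assoc]
    exact P.comp_mem _ _ h (hP.etale r ‹_›)

theorem nearPt_etale_comp (hP : EtLocal P) {X Y Z : Scheme.{u}} (p : X ⟶ Y) (h : Y ⟶ Z) [Etale p] (x : X) :
    NearPt P (p ≫ h) x ↔ NearPt P h (p x) := by
  have := hP.comp
  constructor
  · rintro ⟨W, hx, hW⟩
    let O : Y.Opens := ⟨p '' (W : Set X), p.isOpenMap _ W.2⟩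
    have hr : Set.range (W.ι ≫ p) ⊆ Set.range O.ι := by
      rw [Scheme.Opens.range_ι]
      rintro _ ⟨z, rfl⟩
      exact ⟨W.ι z, z.2, rfl⟩
    let l := IsOpenImmersion.lift O.ι (W.ι ≫ p) hr
    have hl : l ≫ O.ι = W.ι ≫ p := IsOpenImmersion.lift_fac _ _ _
    have : Etale (l ≫ O.ι) := hl ▸ inferInstance
    have : Etale l := Etale.of_comp l O.ι
    have : Surjective l := ⟨fun y => by
      obtain ⟨z, hz, hzy⟩ := y.2
      refine ⟨⟨z, hz⟩, O.ι.isOpenEmbedding.injective ?_⟩
      rw [← Scheme.Hom.comp_apply, hl]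
      exact hzy⟩
    refine ⟨O, ⟨x, hx, rfl⟩, hP.source l _ ‹_› ‹_› ?_⟩
    rw [reassoc_of% hl]
    exact hW
  · rintro ⟨W, hx, hW⟩
    refine ⟨p ⁻¹ᵁ W, hx, ?_⟩
    rw [← Category.assoc, ← morphismRestrict_ι, Category.assoc]
    have : Etale (p ∣_ W) := IsZariskiLocalAtTarget.restrict (P := @Etale) ‹_› W
    exact P.comp_mem _ _ (hP.etale _ this) hW

variable {S : Scheme.{u}} {X Y : Sp S}

/-- One chart suffices to test a property near a point. -/
theorem hasAtMor_iff (hP : EtLocal P) {f : X ⟶ Y} {U V : Over S} {a : (yon S).obj U ⟶ X}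
    {b : (yon S).obj V ⟶ Y} {h : U ⟶ V} (ha : RepWith @Etale a) (hb : RepWith @Etale b)
    (w : a ≫ f = (yon S).map h ≫ b) (u : U.left) :
    HasAtMor (fun _ _ h u => NearPt P h u) f (Points.ofPt a u) ↔ NearPt P h.left u := by
  refine ⟨fun ⟨U', V', a', b', h', u', ha', hb', w', e, H⟩ => ?_,
    fun H => ⟨U, V, a, b, h, u, ha, hb, w, rfl, H⟩⟩
  obtain ⟨U₂, p', p, sqU⟩ := exists_isPullback_of_representable ha'.1 a
  obtain ⟨V₂, r', r, sqV⟩ := exists_isPullback_of_representable hb'.1 b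
  have : Etale p.left := repWith_prop ha' sqU
  have : Etale r.left := repWith_prop hb' sqV
  have : Etale p'.left := repWith_prop ha sqU.flip
  have : Etale r'.left := repWith_prop hb sqV.flip
  obtain ⟨l, hl', hl⟩ := exists_lift_yon sqV (p' ≫ h') (p ≫ h) (by
    rw [Functor.map_comp, Functor.map_comp, Category.assoc, Category.assoc, ← w, ← w', ← Category.assoc,
      ← Category.assoc, sqU.w])
  obtain ⟨v, hv, hv'⟩ := exists_point_of_isPullback sqU (x := Points.ofScheme U' u') (u := u) (by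
    rw [← Points.ofPt_eq_map_ofScheme, e])
  replace hv : p'.left v = u' := (Points.schemeEquiv U').injective (by
    show Points.ofScheme U' _ = Points.ofScheme U' _
    rw [← ofPt_map]; exact hv)
  subst hv hv'
  change NearPt P h'.left (p'.left v) at H
  rw [← nearPt_etale_comp hP, show p'.left ≫ h'.left = l.left ≫ r'.left from congr($(hl'.symm).left),
    nearPt_cancel_etale hP] at H
  rw [← nearPt_etale_comp hP, show p.left ≫ h.left = l.left ≫ r.left from congr($(hl.symm).left),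
    nearPt_cancel_etale hP]
  exact H

theorem unr_iff {X Y : Scheme.{u}} {h : X ⟶ Y} (H : ∀ x, NearPt Unr h x) : Unr h := by
  choose W hx hW using H
  have hsup : ⨆ x, W x = ⊤ := top_unique fun x _ => TopologicalSpace.Opens.mem_iSup.2 ⟨x, hx x⟩
  exact ⟨(IsZariskiLocalAtSource.iff_of_iSup_eq_top (P := @LocallyOfFiniteType) W hsup).2 fun x => (hW x).1,
    (IsZariskiLocalAtSource.iff_of_iSup_eq_top (P := @FormallyUnramified) W hsup).2 fun x => (hW x).2⟩

theorem locP_unr_iff (hX : IsAlgSpace X) (hY : IsAlgSpace Y) {f : X ⟶ Y} :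
    LocP Unr f ↔ ∀ x, HasAtMor (fun _ _ h u => NearPt Unr h u) f x := by
  refine ⟨fun hf x => ?_, fun H U V a b k ha hb w => unr_iff fun u => (hasAtMor_iff etLocal_unramified ha hb w u).1 (H _)⟩
  obtain ⟨U, V, a, b, k, ha, has, hb, -, w⟩ := exists_chart hX hY f
  obtain ⟨u, rfl⟩ := surjective_ofPt has x
  refine ⟨U, V, a, b, k, u, ha, hb, w, rfl, ⊤, trivial, ?_⟩
  have := etLocal_unramified.comp
  exact MorphismProperty.comp_mem Unr _ _ (etLocal_unramified.etale _ inferInstance) (hf a b k ha hb w)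

theorem isOpen_hasAtMor (hP : EtLocal P) (hX : IsAlgSpace X) (hY : IsAlgSpace Y) {f : X ⟶ Y} :
    IsOpen {x | HasAtMor (fun _ _ h u => NearPt P h u) f x} := by
  obtain ⟨U, V, a, b, k, ha, has, hb, -, w⟩ := exists_chart hX hY f
  have heq : {x | HasAtMor (fun _ _ h u => NearPt P h u) f x} = Points.ofPt a '' {u | NearPt P k.left u} := by
    ext x
    obtain ⟨u, rfl⟩ := surjective_ofPt has x
    exact ⟨fun hx => ⟨u, (hasAtMor_iff hP ha hb w u).1 hx, rfl⟩,
      fun ⟨v, hv, e⟩ => e ▸ (hasAtMor_iff hP ha hb w v).2 hv⟩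
  rw [heq]
  refine isOpenMap_ofPt ha _ (isOpen_iff_forall_mem_open.2 fun u hu => ?_)
  obtain ⟨W, hW, h⟩ := hu
  exact ⟨W, fun z hz => ⟨W, hz, h⟩, W.2, hW⟩

theorem unr_baseChange_iff {Z X' Y' Z' : Sp S} (hX : IsAlgSpace X) (hY : IsAlgSpace Y) (hZ : IsAlgSpace Z)
    (hZ' : IsAlgSpace Z') {f : X ⟶ Y} {q : Y ⟶ Z} {g : Z' ⟶ Z} (hp : LocP @LocallyOfFiniteType (f ≫ q))
    {gY : Y' ⟶ Y} {q' : Y' ⟶ Z'} (hsY : IsPullback gY q' q g)
    {gX : X' ⟶ X} {f' : X' ⟶ Y'} (hsX : IsPullback gX f' f gY) (x' : Points X') :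
    HasAtMor (fun _ _ h u => NearPt Unr h u) f' x' ↔
      HasAtMor (fun _ _ h u => NearPt Unr h u) f (Points.map gX x') := by
  obtain ⟨W, c, hc, hcs⟩ := hZ.atlas
  obtain ⟨V, b, k, hb, w₂, hbs⟩ := exists_chart_over hY hZ q hc
  obtain ⟨U, a, h, ha, w₁, has⟩ := exists_chart_over hX hY f hb
  have sqc := IsPullback.of_hasPullback c g
  have hZc : IsAlgSpace (pullback c g) := isAlgSpace_of_isPullback hZ.diag (IsAlgSpace.yon_obj W) hZ' sqc
  obtain ⟨W', e, he, hes⟩ := hZc.atlas
  obtain ⟨k₀, hk₀⟩ := (yon S).map_surjective (e ≫ pullback.fst c g)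
  have w₁₂ : a ≫ f ≫ q = (yon S).map (h ≫ k) ≫ c := by
    rw [Functor.map_comp, Category.assoc, ← w₂, reassoc_of% w₁]
  have sV := IsPullback.of_hasPullback k k₀
  have sU := IsPullback.of_hasPullback (h ≫ k) k₀
  obtain ⟨b', hb', -, hb₁, hb₂⟩ := LciMor.exists_chart_baseChange w₂ sqc hk₀ hb he sV hsY
  obtain ⟨a', ha', has', ha₁, ha₂⟩ := LciMor.exists_chart_baseChange w₁₂ sqc hk₀ ha he sU (hsX.paste_vert hsY)
  let h' := pullback.lift (f := k) (g := k₀) (pullback.fst (h ≫ k) k₀ ≫ h) (pullback.snd (h ≫ k) k₀)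
    (by rw [Category.assoc]; exact sU.w)
  have hh₁ : h' ≫ pullback.fst k k₀ = pullback.fst (h ≫ k) k₀ ≫ h := pullback.lift_fst _ _ _
  have hh₂ : h' ≫ pullback.snd k k₀ = pullback.snd (h ≫ k) k₀ := pullback.lift_snd _ _ _
  have w' : a' ≫ f' = (yon S).map h' ≫ b' := by
    refine hsY.hom_ext ?_ ?_
    · rw [Category.assoc, ← hsX.w, reassoc_of% ha₁, Category.assoc, hb₁, ← Functor.map_comp_assoc, hh₁,
        Functor.map_comp, Category.assoc, w₁]
    · rw [Category.assoc, ha₂, Category.assoc, hb₂, ← Functor.map_comp_assoc, hh₂]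
  have hsq : IsPullback (pullback.fst (h ≫ k) k₀) h' h (pullback.fst k k₀) :=
    IsPullback.of_bot (by rw [hh₂]; exact sU) hh₁.symm sV
  obtain ⟨u', rfl⟩ := surjective_ofPt (has' (has (hbs hcs)) hes) x'
  rw [hasAtMor_iff etLocal_unramified ha' hb' w' u', Points.map_ofPt, ha₁, ofPt_comp,
    hasAtMor_iff etLocal_unramified ha hb w₁]
  have : LocallyOfFiniteType (h.left ≫ k.left) := hp a c (h ≫ k) ha hc w₁₂
  have : LocallyOfFiniteType h.left := locallyOfFiniteType_of_comp h.left k.left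
  have sq := hsq.map (Over.forget S)
  have : LocallyOfFiniteType h'.left := MorphismProperty.of_isPullback sq ‹_›
  have e1 : ∀ {A B : Scheme.{u}} (φ : A ⟶ B) [LocallyOfFiniteType φ] (a : A),
      NearPt Unr φ a ↔ Groth.L05.Point.Nhd @FormallyUnramified φ a :=
    fun φ _ a => exists_congr fun O => and_congr_right fun _ => ⟨fun H => H.2, fun H => ⟨inferInstance, H⟩⟩
  rw [e1, e1]
  have : LocallyOfFiniteType ((Over.forget S).map h) := ‹LocallyOfFiniteType h.left›
  exact nhd_formallyUnramified_iff_baseChange sq u'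

/-- Existence of the closed bad set for unramifiedness. -/
theorem exists_where_unr {X Y Z : AlgSp.Space S} (f : X ⟶ Y) (p : X ⟶ Z) (q : Y ⟶ Z) (hc : f ≫ q = p)
    (hp1 : LocP @LocallyOfFiniteType p.hom) (hp2 : IsClosedMor p.hom) :
    ∃ B : Set (Points Z.obj), IsClosed B ∧
      ∀ (Z' Y' X' : AlgSp.Space S) (g : Z' ⟶ Z) (gY : Y' ⟶ Y) (q' : Y' ⟶ Z'),
        IsPullback gY.hom q'.hom q.hom g.hom → ∀ (gX : X' ⟶ X) (f' : X' ⟶ Y'),
          IsPullback gX.hom f'.hom f.hom gY.hom →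
            ((∀ z', Points.map g.hom z' ∉ B) ↔ LocP Unr f'.hom) := by
  have e : p.hom = f.hom ≫ q.hom := (congrArg (fun φ => φ.hom) hc).symm
  refine ⟨_, hp2 _ (isOpen_hasAtMor etLocal_unramified X.property Y.property (f := f.hom)).isClosed_compl,
    fun Z' Y' X' g gY q' hY gX f' hX => ?_⟩
  have key := unr_baseChange_iff X.property Y.property Z.property Z'.property (e ▸ hp1) hY hX
  rw [locP_unr_iff X'.property Y'.property]
  constructor
  · intro h x'
    by_contra hx
    rw [key] at hx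
    refine h (Points.map (f'.hom ≫ q'.hom) x') ⟨_, hx, ?_⟩
    rw [← Points.map_comp, ← Points.map_comp, e]
    exact congrArg (fun φ => Points.map φ x') (hX.paste_vert hY).w
  · rintro h z' ⟨x, hx, hxz⟩
    rw [e] at hxz
    obtain ⟨x', hx', -⟩ := exists_of_isPullback (hX.paste_vert hY) x z' hxz
    exact hx (hx' ▸ (key x').1 (h x'))

end Groth.L09.Where
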