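import Groth.Agent.L05.Point.Crit
import Mathlib.RingTheory.Flat.FaithfullyFlat.Basic
import Mathlib.AlgebraicGeometry.PullbackCarrier

/-!
# Being unramified near a point commutes with base change
-/

set_option autoImplicit false
set_option linter.style.haveILetI false
set_option backward.isDefEq.respectTransparency.types false
set_option backward.isDefEq.respectTransparency false

universe u

open CategoryTheory CategoryTheory.Limits AlgebraicGeometry TensorProduct TopologicalSpace Groth.L05.Point

attribute [local instance] Algebra.TensorProduct.rightAlgebra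

namespace Groth.L09.Where

set_option synthInstance.maxHeartbeats 400000 in
set_option maxHeartbeats 4000000 in
/-- Unramified at a prime descends along base change. -/
theorem isUnramifiedAt_of_baseChange {A A' B : Type u} [CommRing A] [CommRing A'] [CommRing B] [Algebra A A']
    [Algebra A B] [Algebra.EssFiniteType A B] (q' : Ideal (A' ⊗[A] B)) [q'.IsPrime]
    (q : Ideal B) [q.IsPrime] (hq : q = q'.comap (algebraMap B (A' ⊗[A] B)))
    [Algebra.IsUnramifiedAt A' q'] : Algebra.IsUnramifiedAt A q := by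
  suffices (⟨q, ‹_›⟩ : PrimeSpectrum B) ∈ Algebra.unramifiedLocus A B from this
  rw [Algebra.unramifiedLocus_eq_compl_support, Set.mem_compl_iff,
    Module.mem_support_iff_nontrivial_residueField_tensorProduct, not_nontrivial_iff_subsingleton]
  have h0 : (⟨q', ‹_›⟩ : PrimeSpectrum (A' ⊗[A] B)) ∈ Algebra.unramifiedLocus A' (A' ⊗[A] B) := ‹_›
  rw [Algebra.unramifiedLocus_eq_compl_support, Set.mem_compl_iff,
    Module.mem_support_iff_nontrivial_residueField_tensorProduct, not_nontrivial_iff_subsingleton] at h0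
  let g := Ideal.ResidueField.mapₐ q q' (Algebra.ofId B (A' ⊗[A] B)) hq
  letI : Algebra q.ResidueField q'.ResidueField := g.toRingHom.toAlgebra
  haveI : IsScalarTower B q.ResidueField q'.ResidueField :=
    IsScalarTower.of_algebraMap_eq fun r => (g.commutes r).symm
  have h1 : Subsingleton (q'.ResidueField ⊗[A' ⊗[A] B] ((A' ⊗[A] B) ⊗[B] Ω[B⁄A])) :=
    (TensorProduct.congr (LinearEquiv.refl (A' ⊗[A] B) q'.ResidueField)
      (KaehlerDifferential.tensorKaehlerEquiv A A' B (A' ⊗[A] B))).toEquiv.subsingleton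
  have h2 : Subsingleton (q'.ResidueField ⊗[B] Ω[B⁄A]) :=
    (TensorProduct.AlgebraTensorModule.cancelBaseChange B (A' ⊗[A] B) (A' ⊗[A] B)
      q'.ResidueField Ω[B⁄A]).symm.toEquiv.subsingleton
  have h3 : Subsingleton (q'.ResidueField ⊗[q.ResidueField] (q.ResidueField ⊗[B] Ω[B⁄A])) :=
    (TensorProduct.AlgebraTensorModule.cancelBaseChange B q.ResidueField q.ResidueField
      q'.ResidueField Ω[B⁄A]).toEquiv.subsingleton
  haveI hfree : Module.Free q.ResidueField q'.ResidueField := Module.Free.of_divisionRing _ _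
  haveI hnt : Nontrivial q'.ResidueField := inferInstance
  haveI hff : Module.FaithfullyFlat q.ResidueField q'.ResidueField :=
    Module.FaithfullyFlat.of_linearEquiv _ _ hfree.chooseBasis.repr
  exact (Module.FaithfullyFlat.subsingleton_tensorProduct_iff_right q.ResidueField q'.ResidueField).1 h3

/-- Unramified near a point of an affine scheme. -/
theorem isUnramifiedAt_of_nhd {A B : Type u} [CommRing A] [CommRing B] [Algebra A B] (q : Spec (CommRingCat.of B))
    (h : Nhd @FormallyUnramified (Spec.map (CommRingCat.ofHom (algebraMap A B))) q) :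
    Algebra.IsUnramifiedAt A q.asIdeal := by
  obtain ⟨U, hq, hU⟩ := h
  obtain ⟨_, ⟨_, ⟨r, rfl⟩, rfl⟩, hqr, hrU⟩ :=
    PrimeSpectrum.isBasis_basic_opens.exists_subset_of_mem_open (show q ∈ (U : Set (Spec (CommRingCat.of B))) from hq) U.2
  let j := Spec.map (CommRingCat.ofHom (algebraMap B (Localization.Away r)))
  haveI : IsOpenImmersion j := IsOpenImmersion.of_isLocalization r
  have hr : Set.range j ⊆ Set.range U.ι := by
    rw [Scheme.Opens.range_ι, show Set.range j = (PrimeSpectrum.basicOpen r : Set (PrimeSpectrum B)) from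
      PrimeSpectrum.localization_away_comap_range _ r]
    exact hrU
  let l := IsOpenImmersion.lift U.ι j hr
  have hl : l ≫ U.ι = j := IsOpenImmersion.lift_fac _ _ _
  haveI : IsOpenImmersion (l ≫ U.ι) := hl ▸ inferInstance
  haveI : IsOpenImmersion l := IsOpenImmersion.of_comp l U.ι
  have key : FormallyUnramified (j ≫ Spec.map (CommRingCat.ofHom (algebraMap A B))) := by
    rw [← hl, Category.assoc]
    exact IsZariskiLocalAtSource.comp (P := @FormallyUnramified) hU l
  rw [← Spec.map_comp] at key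
  have hFU : Algebra.FormallyUnramified A (Localization.Away r) := by
    rw [← RingHom.formallyUnramified_algebraMap]
    exact (HasRingHomProperty.Spec_iff (P := @FormallyUnramified)).1 key
  exact Algebra.basicOpen_subset_unramifiedLocus_iff.2 hFU hqr

/-- Being unramified near a point descends along base change. -/
theorem nhd_formallyUnramified_descend {X Y X' Y' : Scheme.{u}} {f : X ⟶ Y} [LocallyOfFiniteType f]
    {f' : X' ⟶ Y'} {g : Y' ⟶ Y} {p : X' ⟶ X} (sq : IsPullback p f' f g) (z : X')
    (h : Nhd @FormallyUnramified f' z) : Nhd @FormallyUnramified f (p z) := by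
  obtain ⟨A, B, j, ι, φ, hj, hι, q₀, e, hq₀, -⟩ := exists_chart f (O := ⊤) (x := p z) trivial
  have hy : g (f' z) = f (p z) := (congrArg (fun m : X' ⟶ Y => m z) sq.w).symm
  have hyι : g (f' z) ∈ ι.opensRange := ⟨Spec.map φ q₀, by
    rw [hy, ← hq₀, ← Scheme.Hom.comp_apply, ← Scheme.Hom.comp_apply, e]⟩
  obtain ⟨V, hV, hzV, hVle⟩ := exists_isAffineOpen_mem_and_subset (X := Y') (x := f' z)
    (U := g ⁻¹ᵁ ι.opensRange) hyι
  let k := hV.fromSpec
  have hkr : Set.range (k ≫ g) ⊆ Set.range ι := by
    rintro _ ⟨t, rfl⟩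
    exact hVle (show k t ∈ (V : Set Y') by rw [← hV.range_fromSpec]; exact ⟨t, rfl⟩)
  obtain ⟨ψ, hψ⟩ := Spec.map_surjective (IsOpenImmersion.lift ι (k ≫ g) hkr)
  have hkg : k ≫ g = Spec.map ψ ≫ ι := by rw [hψ, IsOpenImmersion.lift_fac]
  let m₀ := pullback.map (Spec.map ψ) (Spec.map φ) g f k j ι hkg.symm e.symm
  have hzr : sq.flip.isoPullback.hom z ∈ Set.range m₀ := by
    rw [Scheme.Pullback.range_map]
    refine ⟨?_, ?_⟩
    · show pullback.fst g f (sq.flip.isoPullback.hom z) ∈ Set.range k
      rw [← Scheme.Hom.comp_apply, IsPullback.isoPullback_hom_fst, hV.range_fromSpec]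
      exact hzV
    · show pullback.snd g f (sq.flip.isoPullback.hom z) ∈ Set.range j
      rw [← Scheme.Hom.comp_apply, IsPullback.isoPullback_hom_snd]
      exact ⟨q₀, hq₀⟩
  obtain ⟨w, hw⟩ := hzr
  let m := m₀ ≫ sq.flip.isoPullback.inv
  have hmw : m w = z := by
    rw [Scheme.Hom.comp_apply, hw, ← Scheme.Hom.comp_apply, Iso.hom_inv_id]
    rfl
  have hm₁ : m ≫ f' = pullback.fst (Spec.map ψ) (Spec.map φ) ≫ k := by
    rw [Category.assoc, IsPullback.isoPullback_inv_fst, pullback.lift_fst]
  have hm₂ : m ≫ p = pullback.snd (Spec.map ψ) (Spec.map φ) ≫ j := by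
    rw [Category.assoc, IsPullback.isoPullback_inv_snd, pullback.lift_snd]
  have h1 : Nhd @FormallyUnramified (pullback.fst (Spec.map ψ) (Spec.map φ)) w := by
    obtain ⟨W, hwW, hW⟩ := nhd_openImm_comp (P := @FormallyUnramified) f' m w (hmw.symm ▸ h)
    refine ⟨W, hwW, ?_⟩
    haveI : FormallyUnramified ((W.ι ≫ pullback.fst (Spec.map ψ) (Spec.map φ)) ≫ k) := by
      rw [Category.assoc, ← hm₁]; exact hW
    exact FormallyUnramified.of_comp _ k
  rw [← hmw, ← Scheme.Hom.comp_apply, hm₂, Scheme.Hom.comp_apply]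
  letI : Algebra A B := φ.hom.toAlgebra
  let A' := Γ(Y', V)
  letI : Algebra A A' := ψ.hom.toAlgebra
  let P := pullbackSpecIso A A' B
  have h2 : Nhd @FormallyUnramified (Spec.map (CommRingCat.ofHom (algebraMap A' (A' ⊗[A] B)))) (P.hom w) := by
    rw [← pullbackSpecIso_inv_fst']
    refine nhd_openImm_comp (P := @FormallyUnramified) _ P.inv (P.hom w) ?_
    rw [show P.inv (P.hom w) = w by rw [← Scheme.Hom.comp_apply, Iso.hom_inv_id]; rfl]
    exact h1
  haveI hA : Algebra.IsUnramifiedAt A' (P.hom w).asIdeal :=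
    isUnramifiedAt_of_nhd (P.hom w) h2
  haveI : Algebra.FiniteType A B := (HasRingHomProperty.Spec_iff (P := @LocallyOfFiniteType)).mp (by
    haveI : LocallyOfFiniteType (Spec.map φ ≫ ι) := e ▸ inferInstance
    exact locallyOfFiniteType_of_comp _ ι)
  let q : Spec B := pullback.snd (Spec.map ψ) (Spec.map φ) w
  have hq : q.asIdeal = (P.hom w).asIdeal.comap (algebraMap B (A' ⊗[A] B)) := by
    have : q = Spec.map (CommRingCat.ofHom (algebraMap B (A' ⊗[A] B))) (P.hom w) := by
      rw [show Spec.map (CommRingCat.ofHom (algebraMap B (A' ⊗[A] B))) = P.inv ≫ pullback.snd _ _ from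
        (pullbackSpecIso_inv_snd A A' B).symm, Scheme.Hom.comp_apply,
        show P.inv (P.hom w) = w by rw [← Scheme.Hom.comp_apply, Iso.hom_inv_id]; rfl]
      rfl
    rw [this]
    rfl
  haveI := isUnramifiedAt_of_baseChange (P.hom w).asIdeal q.asIdeal hq
  obtain ⟨r, hr, hru⟩ := Algebra.exists_formallyUnramified_of_isUnramifiedAt (R := A) q.asIdeal
  obtain ⟨U, hu, hU⟩ : Nhd @FormallyUnramified (Spec.map φ) q := nhd_of_away (P := @FormallyUnramified) φ q r hr
    (by rw [show (algebraMap B (Localization.Away r)).comp φ.hom =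
      algebraMap A (Localization.Away r) from rfl]; exact RingHom.formallyUnramified_algebraMap.mpr hru)
  refine nhd_of_openImm (P := @FormallyUnramified) f (U.ι ≫ j) ⟨q, hu⟩ ?_
  rw [Category.assoc, e, ← Category.assoc]
  exact MorphismProperty.comp_mem _ _ _ hU inferInstance

theorem nhd_formallyUnramified_iff_baseChange {X Y X' Y' : Scheme.{u}} {f : X ⟶ Y} [LocallyOfFiniteType f]
    {f' : X' ⟶ Y'} {g : Y' ⟶ Y} {p : X' ⟶ X} (sq : IsPullback p f' f g) (z : X') :
    Nhd @FormallyUnramified f' z ↔ Nhd @FormallyUnramified f (p z) :=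
  ⟨nhd_formallyUnramified_descend sq z, nhd_of_isPullback sq z⟩

end Groth.L09.Where
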